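import Groth.Agent.Lib.MinorRank.Basic
import Groth.Agent.Lib.AlgMisc.SmoothRank
import Groth.Agent.Lib.NoethTop.KrullDim
import Mathlib

/-!
# The smooth locus of a determinantal ring
-/

universe u

open MvPolynomial TensorProduct

namespace GrothLib.DetSmooth

variable {R : Type u} [CommRing R] {n m r : ℕ}

/-- A product through `R^r` has no non-zero `(r+1)`-minor. -/
theorem minorIdeal_mul_eq_bot (U : Matrix (Fin n) (Fin r) R) (V : Matrix (Fin r) (Fin m) R) :
    CAlgX.minorIdeal (U * V) (r + 1) = ⊥ := by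
  refine Ideal.span_eq_bot.2 ?_
  rintro _ ⟨⟨f, g⟩, rfl⟩
  let U' : Matrix (Fin (r + 1)) (Fin (r + 1)) R := Matrix.of fun i => Fin.snoc (fun j => U (f i) j) 0
  let V' : Matrix (Fin (r + 1)) (Fin (r + 1)) R :=
    Matrix.of fun i j => Fin.snoc (α := fun _ => R) (fun a => V a (g j)) 0 i
  have h : (U * V).submatrix f g = U' * V' := by
    ext i j
    simp [U', V', Matrix.mul_apply, Fin.sum_univ_castSucc]
  show ((U * V).submatrix f g).det = 0
  rw [h, Matrix.det_mul, Matrix.det_eq_zero_of_column_eq_zero (Fin.last r) (by simp [U']), zero_mul]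

/-- If all `r`-minors vanish, changing one entry creates no `(r+1)`-minor. -/
theorem det_update_eq_zero (A A' : Matrix (Fin n) (Fin m) R) (i₀ : Fin n)
    (hr : CAlgX.minorIdeal A r = ⊥) (hA : ∀ i, i ≠ i₀ → ∀ j, A' i j = A i j)
    (f : Fin (r + 1) → Fin n) (g : Fin (r + 1) → Fin m) : (A'.submatrix f g).det = 0 := by
  by_cases hf : Function.Injective f
  · obtain ⟨a, ha⟩ : ∃ a, ∀ b, b ≠ a → f b ≠ i₀ := by
      by_cases h : ∃ a, f a = i₀
      · obtain ⟨a, rfl⟩ := h
        exact ⟨a, fun b hb h' => hb (hf h')⟩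
      · exact ⟨0, fun b _ h' => h ⟨b, h'⟩⟩
    rw [Matrix.det_succ_row _ a]
    refine Finset.sum_eq_zero fun l _ => ?_
    have : ((A'.submatrix f g).submatrix a.succAbove l.succAbove) =
        A.submatrix (f ∘ a.succAbove) (g ∘ l.succAbove) := by
      ext b c
      exact hA _ (ha _ (Fin.succAbove_ne a b)) _
    have h0 : (A.submatrix (f ∘ a.succAbove) (g ∘ l.succAbove)).det = 0 :=
      Ideal.span_eq_bot.1 hr _ ⟨(f ∘ a.succAbove, g ∘ l.succAbove), rfl⟩
    rw [this, h0, mul_zero]
  · obtain ⟨a, b, hab, hne⟩ : ∃ a b, f a = f b ∧ a ≠ b := by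
      simpa [Function.Injective] using hf
    exact Matrix.det_zero_of_row_eq hne (funext fun c => by simp [hab])

variable (k : Type u) [Field k] (n m r : ℕ)

/-- The generic matrix. -/
noncomputable abbrev gen : Matrix (Fin n) (Fin m) (MvPolynomial (Fin n × Fin m) k) :=
  Matrix.of fun i j => X (i, j)

/-- The determinantal ring. -/
abbrev DRing : Type u := MvPolynomial (Fin n × Fin m) k ⧸ CAlgX.minorIdeal (gen k n m) (r + 1)

/-- The generic matrix over the determinantal ring. -/
noncomputable abbrev genB : Matrix (Fin n) (Fin m) (DRing k n m r) :=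
  (gen k n m).map (Ideal.Quotient.mk _)

theorem genB_minor : CAlgX.minorIdeal (genB k n m r) (r + 1) = ⊥ := by
  rw [GrothLib.BEExact.minorIdeal_map, Ideal.map_quotient_self]

variable {k n m r}

/-- The map out of the determinantal ring given by a matrix without `(r+1)`-minors. -/
noncomputable def point {C : Type*} [CommRing C] [Algebra k C] (A : Matrix (Fin n) (Fin m) C)
    (h : ∀ (f : Fin (r + 1) → Fin n) (g : Fin (r + 1) → Fin m), (A.submatrix f g).det = 0) :
    DRing k n m r →ₐ[k] C :=
  Ideal.Quotient.liftₐ _ (aeval fun p : Fin n × Fin m => A p.1 p.2) fun a ha => by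
    refine Submodule.span_induction ?_ (map_zero _) (fun x y _ _ hx hy => by simp [map_add, hx, hy])
      (fun c x _ hx => by simp [smul_eq_mul, map_mul, hx]) ha
    rintro _ ⟨⟨f, g⟩, rfl⟩
    rw [← h f g]
    show (aeval fun p : Fin n × Fin m => A p.1 p.2).toRingHom _ = _
    rw [RingHom.map_det]
    congr 1
    ext i j
    simp

theorem point_X {C : Type*} [CommRing C] [Algebra k C] (A : Matrix (Fin n) (Fin m) C) (h) (i : Fin n)
    (j : Fin m) : point (k := k) (r := r) A h (Ideal.Quotient.mk _ (X (i, j))) = A i j :=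
  aeval_X (fun p : Fin n × Fin m => A p.1 p.2) (i, j)

/-- Where an `r`-minor is invertible the determinantal ring is formally smooth. -/
theorem formallySmooth_away (f : Fin r → Fin n) (g : Fin r → Fin m) :
    Algebra.FormallySmooth k (Localization.Away ((genB k n m r).submatrix f g).det) := by
  set δ := ((genB k n m r).submatrix f g).det with hδ
  refine Algebra.FormallySmooth.of_comp_surjective fun C _ _ J hJ φ => ?_
  let ψ : DRing k n m r →ₐ[k] C ⧸ J := φ.comp (IsScalarTower.toAlgHom k _ _)
  let A := (genB k n m r).map ψ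
  have hA : CAlgX.minorIdeal A (r + 1) = ⊥ := by
    show CAlgX.minorIdeal ((genB k n m r).map ψ.toRingHom) (r + 1) = ⊥
    rw [GrothLib.BEExact.minorIdeal_map, genB_minor, Ideal.map_bot]
  have hAu : IsUnit (A.submatrix f g).det := by
    have h1 : (A.submatrix f g).det = φ (algebraMap _ _ δ) := by
      show _ = ψ.toRingHom δ
      rw [hδ, RingHom.map_det]
      rfl
    rw [h1]
    exact (IsLocalization.Away.algebraMap_isUnit δ).map φ
  choose a ha using fun i j => Ideal.Quotient.mk_surjective (I := J) (A i j)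
  let Ah : Matrix (Fin n) (Fin m) C := Matrix.of a
  have hAh : Ah.map (Ideal.Quotient.mk J) = A := Matrix.ext fun i j => ha i j
  have hu : ∀ x : C, IsUnit (Ideal.Quotient.mk J x) → IsUnit x := by
    intro x hx
    obtain ⟨y, hy⟩ := isUnit_iff_exists_inv.1 hx
    obtain ⟨y, rfl⟩ := Ideal.Quotient.mk_surjective y
    rw [← map_mul, ← map_one (Ideal.Quotient.mk J), Ideal.Quotient.mk_eq_mk_iff_sub_mem] at hy
    have hn : IsNilpotent (x * y - 1) := ⟨2, by
      have := Ideal.pow_mem_pow hy 2
      rwa [hJ, Submodule.mem_bot] at this⟩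
    have := hn.isUnit_add_one
    rw [sub_add_cancel] at this
    exact isUnit_of_mul_isUnit_left this
  have hMu : IsUnit (Ah.submatrix f g).det := hu _ (by
    rw [RingHom.map_det, RingHom.mapMatrix_apply, ← Matrix.submatrix_map, hAh]
    exact hAu)
  let T := Ah.submatrix id g * (Ah.submatrix f g)⁻¹ * Ah.submatrix f id
  have hT : T.map (Ideal.Quotient.mk J) = A := by
    have hinv : ((Ah.submatrix f g)⁻¹).map (Ideal.Quotient.mk J) = (A.submatrix f g)⁻¹ := by
      refine (Matrix.inv_eq_left_inv ?_).symm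
      rw [← hAh, Matrix.submatrix_map, ← Matrix.map_mul, Matrix.nonsing_inv_mul _ hMu,
        Matrix.map_one _ (map_zero _) (map_one _)]
    simp only [T, Matrix.map_mul, hinv, ← Matrix.submatrix_map, hAh]
    exact (GrothLib.MinorRank.eq_mul_of_minor A hA hAu).symm
  have hTm : ∀ f' g', (T.submatrix f' g').det = 0 := fun f' g' =>
    Ideal.span_eq_bot.1 (minorIdeal_mul_eq_bot (Ah.submatrix id g * (Ah.submatrix f g)⁻¹)
      (Ah.submatrix f id)) _ ⟨(f', g'), rfl⟩
  let L : DRing k n m r →ₐ[k] C := point T hTm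
  have hL : (Ideal.Quotient.mkₐ k J).comp L = ψ := by
    refine Ideal.Quotient.algHom_ext k (MvPolynomial.algHom_ext fun p => ?_)
    show Ideal.Quotient.mk J (L (Ideal.Quotient.mk _ (X p))) = _
    rw [show L (Ideal.Quotient.mk _ (X p)) = T p.1 p.2 from point_X T hTm p.1 p.2]
    exact congrFun (congrFun hT p.1) p.2
  have hLu : ∀ y : Submonoid.powers δ, IsUnit (L y) := by
    rintro ⟨_, e, rfl⟩
    rw [map_pow]
    refine (hu _ ?_).pow e
    rw [← Ideal.Quotient.mkₐ_eq_mk k, ← AlgHom.comp_apply, hL]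
    exact (IsLocalization.Away.algebraMap_isUnit δ).map φ
  refine ⟨IsLocalization.liftAlgHom hLu, ?_⟩
  refine IsLocalization.algHom_ext (Submonoid.powers δ) (AlgHom.ext fun b => ?_)
  show Ideal.Quotient.mk J (IsLocalization.liftAlgHom hLu (algebraMap _ _ b)) = ψ b
  rw [IsLocalization.liftAlgHom_apply, IsLocalization.lift_eq, ← hL]
  rfl

/-- At a point where all `r`-minors vanish the differentials need all `nm` generators. -/
theorem mul_le_finrank_kaehler (P : Ideal (DRing k n m r)) [P.IsPrime]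
    (hP : CAlgX.minorIdeal (genB k n m r) r ≤ P) :
    n * m ≤ Module.finrank P.ResidueField (P.ResidueField ⊗[DRing k n m r] Ω[DRing k n m r⁄k]) := by
  let κ := P.ResidueField
  let B := DRing k n m r
  let A : Matrix (Fin n) (Fin m) κ := (genB k n m r).map (algebraMap B κ)
  have hA : CAlgX.minorIdeal A r = ⊥ := by
    show CAlgX.minorIdeal ((genB k n m r).map (algebraMap B κ)) r = ⊥
    rw [GrothLib.BEExact.minorIdeal_map, Ideal.map_eq_bot_iff_le_ker]
    exact fun x hx => RingHom.mem_ker.2 (Ideal.algebraMap_residueField_eq_zero.2 (hP hx))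
  let A' : Fin n × Fin m → Matrix (Fin n) (Fin m) (DualNumber κ) := fun p =>
    Matrix.of fun i j => TrivSqZeroExt.inl (A i j) +
      TrivSqZeroExt.inr (if (i, j) = p then (1 : κ) else 0)
  have hA' : ∀ p (f : Fin (r + 1) → Fin n) (g : Fin (r + 1) → Fin m),
      ((A' p).submatrix f g).det = 0 := fun p => by
    refine det_update_eq_zero (A.map (TrivSqZeroExt.inlHom κ κ)) (A' p) p.1 ?_ fun i hi j => ?_
    · rw [GrothLib.BEExact.minorIdeal_map, hA, Ideal.map_bot]
    · simp [A', show (i, j) ≠ p from fun h => hi (congrArg Prod.fst h)]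
  let χ : Fin n × Fin m → (B →ₐ[k] DualNumber κ) := fun p => point (A' p) (hA' p)
  have hfst : ∀ p b, TrivSqZeroExt.fst (χ p b) = algebraMap B κ b := fun p => by
    intro b
    have : (TrivSqZeroExt.fstHom k κ κ).comp (χ p) = IsScalarTower.toAlgHom k B κ := by
      refine Ideal.Quotient.algHom_ext k (MvPolynomial.algHom_ext fun q => ?_)
      show TrivSqZeroExt.fst (χ p (Ideal.Quotient.mk _ (X q))) = _
      rw [show χ p (Ideal.Quotient.mk _ (X q)) = A' p q.1 q.2 from point_X _ _ q.1 q.2]
      simp [A', A]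
      rfl
    exact DFunLike.congr_fun this b
  let d : Fin n × Fin m → Derivation k B κ := fun p =>
    { toLinearMap := (TrivSqZeroExt.sndHom κ κ).restrictScalars k ∘ₗ (χ p).toLinearMap
      map_one_eq_zero' := by simp
      leibniz' := fun a b => by
        show TrivSqZeroExt.snd (χ p (a * b)) =
          a • TrivSqZeroExt.snd (χ p b) + b • TrivSqZeroExt.snd (χ p a)
        rw [map_mul, DualNumber.snd_mul, hfst, hfst, Algebra.smul_def, Algebra.smul_def]
        ring }
  have hd : ∀ p q : Fin n × Fin m,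
      d p (Ideal.Quotient.mk _ (X q)) = if q = p then (1 : κ) else 0 := fun p q => by
    show TrivSqZeroExt.snd (χ p (Ideal.Quotient.mk _ (X q))) = _
    rw [show χ p (Ideal.Quotient.mk _ (X q)) = A' p q.1 q.2 from point_X _ _ q.1 q.2]
    simp [A']
  let Φ : Ω[B⁄k] →ₗ[B] (Fin n × Fin m → κ) :=
    LinearMap.pi fun p => (d p).liftKaehlerDifferential
  have hΦ : ∀ q, Φ (KaehlerDifferential.D k B (Ideal.Quotient.mk _ (X q))) = Pi.single q 1 := by
    intro q
    funext p
    simp only [Φ, LinearMap.pi_apply, Derivation.liftKaehlerDifferential_comp_D, hd, Pi.single_apply]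
    simp [eq_comm]
  have hs : Function.Surjective (Φ.liftBaseChange κ) := by
    intro v
    refine ⟨∑ q, v q ⊗ₜ[B] KaehlerDifferential.D k B (Ideal.Quotient.mk _ (X q)), ?_⟩
    rw [map_sum]
    simp only [LinearMap.liftBaseChange_tmul, hΦ]
    funext p
    simp [Finset.sum_apply, Pi.single_apply]
  haveI : Module.Finite B Ω[B⁄k] := inferInstance
  have h := LinearMap.finrank_range_le (Φ.liftBaseChange κ)
  rw [LinearMap.range_eq_top.2 hs, finrank_top, Module.finrank_fintype_fun_eq_card,
    Fintype.card_prod, Fintype.card_fin, Fintype.card_fin] at h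
  exact h

end GrothLib.DetSmooth
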